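import Cfsg.Agent.H726.Rel.Defs
import Cfsg.Agent.H478.WalterAll
import Cfsg.Agent.H95.StemCover
import Cfsg.Agent.H270.Crit.LTwo
import Cfsg.Agent.S2086
import Cfsg.Agent.S2113
import Cfsg.Agent.S2039
import Cfsg.Agent.S0252
import Cfsg.Agent.S0253

/-!
# The row `two` of `H726.Rel.Rows` (simple groups with abelian Sylow 2-subgroups)
-/

set_option autoImplicit false

namespace Cfsg.Agent.H528.Rel

open Cfsg Cfsg.Agent.H726.Rel Cfsg.Agent.H270.Crit.LTwo

universe u v w

/-- the kernel of a stem extension and the multiplier, up to isomorphism -/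
theorem ker_dvd {S : Type u} {T : Type v} {C : Type w} [Group S] [Group T] [Finite T] [Group C] [Finite C] (e : S ≃* T)
    {n : ℕ} (hA : HasCyclicSchurMultiplier T n) (σ : C →* S) (hσ : IsStemExtension σ) : Nat.card σ.ker ∣ n := by
  have hk : (e.toMonoidHom.comp σ).ker = σ.ker := by
    ext g
    rw [MonoidHom.mem_ker, MonoidHom.mem_ker, MonoidHom.comp_apply]
    exact e.map_eq_one_iff
  have hτ : IsStemExtension (e.toMonoidHom.comp σ) := by
    refine ⟨e.surjective.comp hσ.1, ?_, ?_⟩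
    · rw [hk]; exact hσ.2.1
    · rw [hk]; exact hσ.2.2
  obtain ⟨f, hf⟩ := Cfsg.Agent.H487.HasSchurMultiplier.exists_surj_ker hA hτ
  have h1 : Nat.card (e.toMonoidHom.comp σ).ker ∣ Nat.card (Multiplicative (ZMod n)) :=
    Subgroup.card_dvd_of_surjective f hf
  rwa [Nat.card_congr Multiplicative.toAdd, Nat.card_zmod, hk] at h1

theorem two_part_le {n : ℕ} (h8 : ¬ 8 ∣ n) (h0 : n ≠ 0) : 2 ^ n.factorization 2 ≤ 4 := by
  have h1 : 2 ^ n.factorization 2 ∣ n := Nat.ordProj_dvd n 2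
  have h2 : n.factorization 2 < 3 := by
    by_contra hcon
    exact h8 ((show 8 = 2 ^ 3 by norm_num) ▸ (pow_dvd_pow 2 (not_lt.1 hcon)).trans h1)
  calc 2 ^ n.factorization 2 ≤ 2 ^ 2 := Nat.pow_le_pow_right (by norm_num) (by omega)
    _ = 4 := by norm_num

theorem card_A5 : Nat.card (alternatingGroup (Fin 5)) = 60 := by
  rw [nat_card_alternatingGroup]
  norm_num [Nat.factorial]

theorem orderOf_x3 : orderOf x3 = 3 := by
  have : Fact (Nat.Prime 3) := ⟨Nat.prime_three⟩
  refine orderOf_eq_prime ?_ ?_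
  · apply Subtype.ext
    show (Equiv.swap 0 1 * Equiv.swap 1 2 : Equiv.Perm (Fin 5)) ^ 3 = 1
    decide
  · intro h
    have h1 : (Equiv.swap 0 1 * Equiv.swap 1 2 : Equiv.Perm (Fin 5)) = 1 := congrArg Subtype.val h
    revert h1
    decide

theorem bigClass_A5 : BigClass 2 (alternatingGroup (Fin 5)) := by
  have h1 : x3 ≠ 1 := by
    intro h
    have := orderOf_x3
    rw [h, orderOf_one] at this
    omega
  refine BigClass.mk' (x := x3) (r := 3) (k := 1) (m := 4) (c := 3) (N := 60) Nat.prime_three (by norm_num) h1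
    (by rw [orderOf_x3, pow_one]) ?_ card_x3.le card_A5.ge (by norm_num)
  exact two_part_le (by rw [card_A5]; norm_num) (by rw [card_A5]; norm_num)

theorem up_pow {F : Type*} [Field F] (n : ℕ) : (up (1 : F)) ^ n = up (n : F) := by
  induction n with
  | zero =>
    rw [pow_zero, ext_iff', up00, up01, up10, up11]
    simp
  | succ n ih =>
    rw [pow_succ, ih, ext_iff']
    obtain ⟨b1, b2, b3, b4⟩ := mul_entries (up (n : F)) (up 1)
    rw [b1, b2, b3, b4]
    simp only [up00, up01, up10, up11]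
    push_cast
    refine ⟨?_, ?_, ?_, ?_⟩ <;> ring

theorem orderOf_up {F : Type*} [Field F] {p : ℕ} [hp : Fact p.Prime] [CharP F p] :
    orderOf (mk (up (1 : F))) = p := by
  refine orderOf_eq_prime ?_ ?_
  · have h : (mk (up (1 : F))) ^ p = mk ((up (1 : F)) ^ p) := rfl
    rw [h, up_pow, CharP.cast_eq_zero]
    have h1 : up (0 : F) = 1 := by
      have := up_pow (F := F) 0
      rw [pow_zero, Nat.cast_zero] at this
      exact this.symm
    rw [h1]
    rfl
  · intro h
    have h1 : up (1 : F) ∈ Subgroup.center (Matrix.SpecialLinearGroup (Fin 2) F) :=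
      (QuotientGroup.eq_one_iff (up (1 : F))).1 h
    rcases Cfsg.Agent.ClassicalGeometry.PSL2Basic.mem_center_SL2_iff.1 h1 with h2 | h2
    · have h3 := (ext_iff'.1 h2).2.1
      rw [up01] at h3
      simp at h3
    · have h3 := (ext_iff'.1 h2).2.1
      rw [up01, neg_entries] at h3
      simp at h3

theorem bigClass_psl {F : Type*} [Field F] [Fintype F] (h8 : Fintype.card F % 8 = 3 ∨ Fintype.card F % 8 = 5)
    (h5 : 5 ≤ Fintype.card F) : BigClass 2 (Matrix.ProjectiveSpecialLinearGroup (Fin 2) F) := by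
  by_cases h : Fintype.card F = 5
  · obtain ⟨e⟩ := S0253.result (F := F) h
    exact bigClass_A5.congr e.symm
  obtain ⟨p, hchar⟩ := CharP.exists F
  obtain ⟨f, hpp, hF⟩ := FiniteField.card F p
  have hpf : Fact p.Prime := ⟨hpp⟩
  have hodd : Odd (Fintype.card F) := by
    rw [Nat.odd_iff]; omega
  have hp2 : p ≠ 2 := by
    rintro rfl
    rw [hF] at hodd
    exact absurd hodd (Nat.not_odd_iff_even.2 (even_two.pow_of_ne_zero f.ne_zero))
  have hn := Cfsg.Agent.ClassicalGeometry.PSL2Basic.card_PSL2_odd F hodd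
  obtain ⟨q, hq⟩ : ∃ q, q = Fintype.card F := ⟨_, rfl⟩
  rw [← hq] at h8 h5 h hn
  obtain ⟨k, hk⟩ : ∃ k, Nat.card (Matrix.ProjectiveSpecialLinearGroup (Fin 2) F) = q * (4 * (2 * k + 1)) ∧
      60 ≤ 4 * (2 * k + 1) := by
    rcases h8 with h8 | h8
    · obtain ⟨j, hj⟩ : ∃ j, q = 8 * j + 3 := ⟨q / 8, by omega⟩
      have h2 : q ^ 2 - 1 = 2 * (4 * (2 * (4 * j ^ 2 + 3 * j) + 1)) := by
        have : q ^ 2 = 2 * (4 * (2 * (4 * j ^ 2 + 3 * j) + 1)) + 1 := by rw [hj]; ring
        omega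
      have hj1 : 1 ≤ j := by omega
      have hj2 : 1 ≤ j ^ 2 := Nat.one_le_pow _ _ hj1
      refine ⟨4 * j ^ 2 + 3 * j, ?_, by omega⟩
      apply Nat.eq_of_mul_eq_mul_right (show 0 < 2 by norm_num)
      rw [hn, h2]; ring
    · obtain ⟨j, hj⟩ : ∃ j, q = 8 * j + 5 := ⟨q / 8, by omega⟩
      have h2 : q ^ 2 - 1 = 2 * (4 * (2 * (4 * j ^ 2 + 5 * j + 1) + 1)) := by
        have : q ^ 2 = 2 * (4 * (2 * (4 * j ^ 2 + 5 * j + 1) + 1)) + 1 := by rw [hj]; ring
        omega
      have hj1 : 1 ≤ j := by omega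
      have hj2 : 1 ≤ j ^ 2 := Nat.one_le_pow _ _ hj1
      refine ⟨4 * j ^ 2 + 5 * j + 1, ?_, by omega⟩
      apply Nat.eq_of_mul_eq_mul_right (show 0 < 2 by norm_num)
      rw [hn, h2]; ring
  have hx : mk (up (1 : F)) ≠ 1 := by
    intro h
    have := orderOf_up (F := F) (p := p)
    rw [h, orderOf_one] at this
    exact hpp.one_lt.ne this
  refine BigClass.mk' (x := mk (up 1)) (r := p) (k := 1) (m := 4) (c := q)
    (N := Nat.card (Matrix.ProjectiveSpecialLinearGroup (Fin 2) F)) hpp hp2 hx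
    (by rw [orderOf_up (p := p), pow_one]) ?_ (by rw [hq]; exact card_up) le_rfl ?_
  · refine two_part_le ?_ ?_
    · rw [hk.1]
      intro h
      have h1 : q * (4 * (2 * k + 1)) = 4 * (q * (2 * k + 1)) := by ring
      rw [h1, show 8 = 4 * 2 by norm_num, Nat.mul_dvd_mul_iff_left (by norm_num)] at h
      have h3 : Odd (q * (2 * k + 1)) := Odd.mul (hq ▸ hodd) ⟨k, rfl⟩
      exact Nat.not_even_iff_odd.2 h3 (even_iff_two_dvd.2 h)
    · rw [hk.1]
      have : 0 < q * (4 * (2 * k + 1)) := Nat.mul_pos (by omega) (by omega)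
      omega
  · rw [hk.1]
    calc 4 ^ 2 * q = q * 16 := by ring
      _ < q * (4 * (2 * k + 1)) := Nat.mul_lt_mul_of_pos_left (by omega) (by omega)

/-- **The row `two`.** -/
theorem two (S C : Type u) [Group S] [Finite S] [IsSimpleGroup S] [Group C] [Finite C] (σ : C →* S) :
    ¬ IsMulCommutative S → IsStemExtension σ → 2 ∣ Nat.card σ.ker → AbSylow 2 S →
    (∃ k, Nat.card σ.ker = 2 ^ k) ∧ BigClass 2 S := by
  intro hS hσ h2 hab
  have P : Sylow 2 S := default
  have key : ∀ n : ℕ, n ∣ 2 → Nat.card σ.ker ∣ n → ∃ k, Nat.card σ.ker = 2 ^ k := by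
    intro n hn h
    rcases (Nat.dvd_prime Nat.prime_two).1 (h.trans hn) with h | h
    · exact ⟨0, by rw [h, pow_zero]⟩
    · exact ⟨1, by rw [h, pow_one]⟩
  have hA5 : Nonempty (S ≃* alternatingGroup (Fin 5)) → (∃ k, Nat.card σ.ker = 2 ^ k) ∧ BigClass 2 S := by
    rintro ⟨e⟩
    have : Fact (Nat.Prime 5) := ⟨Nat.prime_five⟩
    obtain ⟨e'⟩ := S0253.result (F := ZMod 5) (ZMod.card 5)
    have hm := S2086.result (F := ZMod 5) (ZMod.card 5) 2 le_rfl (fun _ => by norm_num) (by simp)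
    refine ⟨key _ ?_ (ker_dvd (e.trans e'.symm) hm σ hσ), bigClass_A5.congr e.symm⟩
    norm_num
  rcases H478.WalterAll.iso_of_abelian hS P (hab P) with ⟨F, i1, i2, n, hn, hF, ⟨e⟩⟩ | ⟨F, i1, i2, h8, h5, ⟨e⟩⟩ | h | h
  · rcases Nat.lt_or_ge n 3 with h3 | h3
    · have : n = 2 := by omega
      subst this
      obtain ⟨e'⟩ := S0252.result (F := F) (by rw [hF]; norm_num)
      exact hA5 ⟨e.trans e'⟩
    · exfalso
      have h8 : 8 ≤ 2 ^ n := by
        calc 8 = 2 ^ 3 := by norm_num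
          _ ≤ 2 ^ n := Nat.pow_le_pow_right (by norm_num) h3
      have hev : Even (2 ^ n) := even_two.pow_of_ne_zero (by omega)
      have hm := S2086.result (F := F) hF 2 le_rfl (fun _ => by omega) (by
        simp only [Set.mem_insert_iff, Set.mem_singleton_iff, Prod.mk.injEq, not_or]
        refine ⟨by omega, ?_, by omega, by omega, by omega⟩
        rintro ⟨-, h9⟩
        rw [h9] at hev
        exact absurd hev (by decide))
      have hg : Nat.gcd 2 (2 ^ n - 1) = 1 := Nat.coprime_two_left.2 (Nat.Even.sub_odd (by omega) hev odd_one)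
      rw [hg] at hm
      have := h2.trans (ker_dvd e hm σ hσ)
      omega
  · have hm := S2086.result (F := F) rfl 2 le_rfl (fun _ => by omega) (by
      simp only [Set.mem_insert_iff, Set.mem_singleton_iff, Prod.mk.injEq, not_or]
      omega)
    exact ⟨key _ (Nat.gcd_dvd_left 2 _) (ker_dvd e hm σ hσ), (bigClass_psl h8 h5).congr e.symm⟩
  · exfalso
    obtain ⟨K, i1, i2, m, hm, hK, ⟨e⟩⟩ := h
    have := h2.trans (ker_dvd e (S2113.result hm hK) σ hσ)
    omega
  · exfalso
    obtain ⟨e⟩ := h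
    have : Finite ↥Spor.J1 := Finite.of_equiv S e.toEquiv
    have := h2.trans (ker_dvd e S2039.result σ hσ)
    omega

end Cfsg.Agent.H528.Rel
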